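import Groth.Agent.FinCond.K653.LocalIso
import Mathlib.FieldTheory.RatFunc.Luroth
import Mathlib.AlgebraicGeometry.FunctionField

/-! Lüroth's theorem in geometric form. -/

set_option autoImplicit false
universe u

namespace K915.Luroth

open CategoryTheory CategoryTheory.Limits AlgebraicGeometry

/-- Lüroth's theorem for a field `M` isomorphic to `k(x)` and a subextension `L` different from `k`. -/
theorem luroth {k L M : Type u} [Field k] [Field L] [Field M] (aL : k →+* L) (aM : k →+* M)
    (e : M ≃+* RatFunc k) (he : ∀ c, e (aM c) = algebraMap k (RatFunc k) c) (φ : L →+* M)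
    (hφ : ∀ c, φ (aL c) = aM c) (hne : ¬ Function.Surjective aL) :
    ∃ ψ : L ≃+* M, ∀ c, ψ (aL c) = aM c := by
  let _ := aL.toAlgebra
  let φ' : L →ₐ[k] RatFunc k :=
    { (e : M →+* RatFunc k).comp φ with
      commutes' := fun c => by
        change e (φ (aL c)) = _
        rw [hφ, he] }
  have hE : φ'.fieldRange ≠ ⊥ := by
    intro h
    apply hne
    intro l
    have h1 : φ' l ∈ φ'.fieldRange := ⟨l, rfl⟩
    rw [h, IntermediateField.mem_bot] at h1
    obtain ⟨c, hc⟩ := h1
    refine ⟨c, φ'.toRingHom.injective ?_⟩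
    rw [← AlgHom.commutes φ' c] at hc
    exact hc
  let ψ : L ≃ₐ[k] RatFunc k := (AlgEquiv.ofInjectiveField φ').trans (RatFunc.Luroth.algEquiv hE).symm
  refine ⟨ψ.toRingEquiv.trans e.symm, fun c => ?_⟩
  have h2 : ψ (aL c) = algebraMap k (RatFunc k) c := ψ.commutes c
  change e.symm (ψ (aL c)) = _
  rw [h2, ← he, e.symm_apply_apply]

theorem exists_ratFunc_aux (k : Type u) [Field k] (R : CommRingCat.{u}) [IsDomain R]
    (e0 : R ≃+* Polynomial k) :
    ∃ e : (Spec R).functionField ≃+* RatFunc k,
      ∀ c : R, e (algebraMap R (Spec R).functionField c) = algebraMap _ (RatFunc k) (e0 c) :=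
  ⟨IsFractionRing.ringEquivOfRingEquiv (A := R) e0,
    fun c => IsFractionRing.ringEquivOfRingEquiv_algebraMap _ _⟩

theorem fromSpecStalk_eq (R : CommRingCat.{u}) [IsDomain R] :
    (Spec R).fromSpecStalk (genericPoint (Spec R)) =
      Spec.map (CommRingCat.ofHom (S := (Spec R).functionField)
        (algebraMap R (Spec R).functionField)) := by
  rw [Spec.fromSpecStalk_eq']
  rfl

end K915.Luroth
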