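-- Binary forms over an algebraically closed field: common factors and common zeros.
import Mathlib.RingTheory.Nullstellensatz
import Mathlib.RingTheory.MvPolynomial.Homogeneous
import Mathlib.Algebra.MvPolynomial.Division
import Mathlib.RingTheory.Polynomial.UniqueFactorization
import Mathlib.Tactic

set_option autoImplicit false
universe u v

open MvPolynomial

namespace K915.BinaryForms

theorem eval₂_mul_of_isHomogeneous {σ A B : Type*} [CommSemiring A] [CommSemiring B] (φ : A →+* B) (r : B)
    (g : σ → B) {p : MvPolynomial σ A} {d : ℕ} (hp : p.IsHomogeneous d) :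
    eval₂ φ (fun i => r * g i) p = r ^ d * eval₂ φ g p := by
  simp only [eval₂_eq, Finset.mul_sum]
  refine Finset.sum_congr rfl fun e he => ?_
  have h1 : ∑ i ∈ e.support, e i = d := hp.degree_eq_sum_deg_support he ▸ rfl
  simp only [mul_pow, Finset.prod_mul_distrib, Finset.prod_pow_eq_pow_sum, h1]
  ring

variable {k : Type u} [Field k]

/-- A homogeneous polynomial vanishing at `a`, with `a i ≠ 0`, lies in the ideal of the line through `a`. -/
theorem mem_span_line {σ : Type v} (a : σ → k) (i : σ) {F : MvPolynomial σ k} {d : ℕ}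
    (hF : F.IsHomogeneous d) (h0 : eval a F = 0) :
    F ∈ Ideal.span (Set.range fun j : σ => X j - C (a j / a i) * X i) := by
  set I : Ideal (MvPolynomial σ k) := Ideal.span (Set.range fun j : σ => X j - C (a j / a i) * X i) with hI
  rw [← Ideal.Quotient.eq_zero_iff_mem]
  -- the quotient map
  let q : MvPolynomial σ k →+* MvPolynomial σ k ⧸ I := Ideal.Quotient.mk I
  let c : MvPolynomial σ k ⧸ I := q (C (a i)⁻¹ * X i)
  have h1 : ∀ j, q (X j) = c * q (C (a j)) := by
    intro j
    rw [← map_mul, Ideal.Quotient.mk_eq_mk_iff_sub_mem]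
    have : X j - C (a i)⁻¹ * X i * C (a j) = X j - C (a j / a i) * X i := by
      rw [div_eq_mul_inv, C_mul]; ring
    rw [this]
    exact Ideal.subset_span ⟨j, rfl⟩
  have h2 : q F = eval₂ (q.comp C) (fun j => q (X j)) F := by
    have : q = eval₂Hom (q.comp C) (fun j => q (X j)) := by
      apply MvPolynomial.ringHom_ext
      · intro r; simp
      · intro j; simp
    exact RingHom.congr_fun this F
  change q F = 0
  rw [h2]
  simp only [h1]
  rw [eval₂_mul_of_isHomogeneous _ c (fun j => q (C (a j))) hF]
  have h3 : eval₂ (q.comp C) (fun j => q (C (a j))) F = (q.comp C) (eval a F) := by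
    rw [← coe_eval₂Hom, ← RingHom.comp_apply]
    congr 1
    apply MvPolynomial.ringHom_ext
    · intro r; simp
    · intro j; simp
  rw [h3, h0, map_zero, mul_zero]

/-- In two variables: there is a linear form, not a unit, which divides all forms vanishing at `a`. -/
theorem exists_linear (a : Fin 2 → k) (ha : a ≠ 0) :
    ∃ L : MvPolynomial (Fin 2) k, ¬ IsUnit L ∧
      ∀ (F : MvPolynomial (Fin 2) k) (d : ℕ), F.IsHomogeneous d → eval a F = 0 → L ∣ F := by
  obtain ⟨i, hi⟩ : ∃ i, a i ≠ 0 := by
    by_contra h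
    push Not at h
    exact ha (funext h)
  -- the other index
  obtain ⟨j, hj, hij⟩ : ∃ j : Fin 2, j ≠ i ∧ ∀ l : Fin 2, l = i ∨ l = j := by
    fin_cases i
    · exact ⟨1, by decide, by decide⟩
    · exact ⟨0, by decide, by decide⟩
  refine ⟨X j - C (a j / a i) * X i, ?_, ?_⟩
  · intro hu
    have h1 : IsUnit (eval a (X j - C (a j / a i) * X i)) := hu.map (eval a)
    rw [map_sub, map_mul, eval_X, eval_C, eval_X, div_mul_cancel₀ _ hi, sub_self] at h1
    exact not_isUnit_zero h1
  · intro F d hF h0
    have h1 := mem_span_line a i hF h0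
    rw [← Ideal.mem_span_singleton]
    refine (Ideal.span_le.mpr ?_ : Ideal.span _ ≤ _) h1
    rintro _ ⟨l, rfl⟩
    rcases hij l with rfl | rfl
    · have : (X l - C (a l / a l) * X l : MvPolynomial (Fin 2) k) = 0 := by
        rw [div_self hi, C_1, one_mul, sub_self]
      change (X l - C (a l / a l) * X l : MvPolynomial (Fin 2) k) ∈ _
      rw [this]
      exact Ideal.zero_mem _
    · exact Ideal.subset_span rfl

variable [IsAlgClosed k]

/-- If a set of polynomials has no common zero other than `0`, the variables are nilpotent modulo it. -/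
theorem exists_pow_mem_of_forall_eq_zero {σ : Type v} [Finite σ] (S : Set (MvPolynomial σ k))
    (h : ∀ a : σ → k, (∀ F ∈ S, eval a F = 0) → a = 0) (i : σ) :
    ∃ N : ℕ, (X i : MvPolynomial σ k) ^ N ∈ Ideal.span S := by
  have h1 : (X i : MvPolynomial σ k) ∈ (Ideal.span S).radical := by
    rw [← vanishingIdeal_zeroLocus_eq_radical (K := k), mem_vanishingIdeal_iff]
    intro a ha
    rw [mem_zeroLocus_iff] at ha
    have : a = 0 := h a fun F hF => by
      have := ha F (Ideal.subset_span hF)
      simpa [aeval_eq_eval] using this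
    rw [this]
    simp
  exact h1

/-- A nonunit in two variables over an algebraically closed field has a zero other than the origin. -/
theorem exists_zero_of_not_isUnit (H : MvPolynomial (Fin 2) k) (hH : ¬ IsUnit H) :
    ∃ a : Fin 2 → k, a ≠ 0 ∧ eval a H = 0 := by
  by_contra hcon
  push Not at hcon
  have h : ∀ a : Fin 2 → k, (∀ F ∈ ({H} : Set (MvPolynomial (Fin 2) k)), eval a F = 0) → a = 0 := by
    intro a ha
    by_contra h0
    exact hcon a h0 (ha H rfl)
  obtain ⟨N, hN⟩ := exists_pow_mem_of_forall_eq_zero {H} h 0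
  obtain ⟨M, hM⟩ := exists_pow_mem_of_forall_eq_zero {H} h 1
  rw [Ideal.mem_span_singleton] at hN hM
  rw [dvd_prime_pow (MvPolynomial.X_prime (i := (0 : Fin 2)) (R := k))] at hN
  obtain ⟨j, -, hj⟩ := hN
  rcases Nat.eq_zero_or_pos j with rfl | hj0
  · rw [pow_zero] at hj
    exact hH (associated_one_iff_isUnit.mp hj)
  · have h1 : (X 0 : MvPolynomial (Fin 2) k) ∣ X 1 ^ M :=
      (dvd_pow_self _ hj0.ne').trans (hj.symm.dvd.trans hM)
    have h2 : (X 0 : MvPolynomial (Fin 2) k) ∣ X 1 := (MvPolynomial.X_prime (i := (0 : Fin 2))).dvd_of_dvd_pow h1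
    rw [MvPolynomial.X_dvd_X] at h2
    exact absurd h2 (by decide)

end K915.BinaryForms
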