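import Groth.Agent.FinCond.K653.LocalIso
import Groth.Agent.VarietyB.ResMap

/-! Isomorphic function fields give isomorphic nonempty open subschemes. -/

set_option autoImplicit false
universe u

namespace K915.FunFieldIso

open CategoryTheory CategoryTheory.Limits AlgebraicGeometry

theorem exists_open_iso (k : Type u) [Field k] (X : Scheme.{u}) [X.Over (Spec (CommRingCat.of k))]
    [IsIntegral X] [LocallyOfFiniteType (X ↘ (Spec (CommRingCat.of k)))]
    (Y : Scheme.{u}) [Y.Over (Spec (CommRingCat.of k))] [IsIntegral Y]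
    [LocallyOfFiniteType (Y ↘ (Spec (CommRingCat.of k)))]
    (e : X.functionField ≅ Y.functionField)
    (he : e.hom.hom.comp (Curv2.stalkMap k X (genericPoint X)) =
      Curv2.stalkMap k Y (genericPoint Y)) :
    ∃ (U : X.Opens) (V : Y.Opens), (U : Set ↥X).Nonempty ∧
      ∃ φ : (U : Scheme.{u}) ≅ (V : Scheme.{u}),
        φ.hom ≫ V.ι ≫ (Y ↘ (Spec (CommRingCat.of k))) = U.ι ≫ (X ↘ (Spec (CommRingCat.of k))) := by
  have : Subsingleton ↥(Spec (CommRingCat.of k)) := inferInstanceAs (Subsingleton (PrimeSpectrum k))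
  have hX : LocallyOfFinitePresentation (X ↘ (Spec (CommRingCat.of k))) :=
    LocallyOfFinitePresentation.iff_locallyOfFiniteType.mpr inferInstance
  have hY : LocallyOfFinitePresentation (Y ↘ (Spec (CommRingCat.of k))) :=
    LocallyOfFinitePresentation.iff_locallyOfFiniteType.mpr inferInstance
  have e0 : (X ↘ (Spec (CommRingCat.of k))) (genericPoint X) =
    (Y ↘ (Spec (CommRingCat.of k))) (genericPoint Y) := Subsingleton.elim _ _
  have he' : CommRingCat.ofHom (Curv2.stalkMap k X (genericPoint X)) =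
      CommRingCat.ofHom (Curv2.stalkMap k Y (genericPoint Y)) ≫ e.inv := by
    have h1 : CommRingCat.ofHom (Curv2.stalkMap k X (genericPoint X)) ≫ e.hom =
        CommRingCat.ofHom (Curv2.stalkMap k Y (genericPoint Y)) := by
      rw [← he]; rfl
    rw [← h1, Category.assoc, e.hom_inv_id]
    exact (Category.comp_id _).symm
  obtain ⟨U, hxU, V, f, hf, -, h2⟩ := K653.LocalIso.exists_isIso_spread_out
    (X ↘ (Spec (CommRingCat.of k))) (Y ↘ (Spec (CommRingCat.of k))) e0 e.inv (by
      apply Spec.map_injective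
      rw [← cancel_mono ((Spec (CommRingCat.of k)).fromSpecStalk _), Spec.map_comp, Spec.map_comp,
        Category.assoc, Category.assoc, Scheme.SpecMap_stalkMap_fromSpecStalk,
        Scheme.SpecMap_stalkSpecializes_fromSpecStalk, Scheme.SpecMap_stalkMap_fromSpecStalk,
        ← Groth.Agent.VarietyB.ResMap.specMap_stalkMap, ← Groth.Agent.VarietyB.ResMap.specMap_stalkMap,
        ← Spec.map_comp, he'])
  exact ⟨U, V, ⟨_, hxU⟩, asIso f, h2⟩

end K915.FunFieldIso
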