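import Groth.Agent.RatCurve.K915.Luroth
import Groth.Agent.VarietyB.ResMap
import Groth.Agent.RatCurve.K915.P1Basic
import Groth.Agent.Ega3B.ProjProper
import Groth.Agent.S1619
import Groth.Agent.S2344
import Groth.Agent.Sga4h.BidGeoP1
import Groth.Agent.Lefpen.H705.ClosedPoint
import Mathlib.AlgebraicGeometry.Morphisms.SchemeTheoreticallyDominant

/-! Rational curves in projective space are the images of the projective line. -/

set_option autoImplicit false
universe u

namespace K915.RatIff

open CategoryTheory CategoryTheory.Limits AlgebraicGeometry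

/-- The generic point under a dominant morphism. -/
theorem map_genericPoint {X Y : Scheme.{u}} [IrreducibleSpace X] [IrreducibleSpace Y] (f : X ⟶ Y)
    (hf : DenseRange f) : f (genericPoint X) = genericPoint Y := by
  have h1 : IsGenericPoint (f (genericPoint X)) Set.univ := by
    have h2 := (genericPoint_spec X).image f.continuous
    rw [Set.image_univ, hf.closure_range] at h2
    exact h2
  exact h1.eq (genericPoint_spec Y)

/-- Ring maps on stalks. -/
theorem exists_stalk_map {X Y : Scheme.{u}} (f : X ⟶ Y) {x : X} {y : Y} (h : f x = y) :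
    ∃ φ : Y.presheaf.stalk y ⟶ X.presheaf.stalk x,
      Spec.map φ ≫ Y.fromSpecStalk y = X.fromSpecStalk x ≫ f := by
  subst h
  exact ⟨f.stalkMap x, Scheme.SpecMap_stalkMap_fromSpecStalk _⟩

/-- The inclusion of a nonempty open subset does not change the kernel. -/
theorem ker_ι_comp {X Y : Scheme.{u}} [IsIntegral X] (U : X.Opens) (hU : (U : Set X).Nonempty)
    (f : X ⟶ Y) : (U.ι ≫ f).ker = f.ker := by
  have hd : IsDominant U.ι := by
    constructor
    rw [DenseRange, Scheme.Opens.range_ι]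
    exact U.isOpen.dense hU
  have := IsSchemeTheoreticallyDominant.of_isDominant U.ι
  rw [Scheme.Hom.ker_comp, U.ι.ker_eq_bot, Scheme.IdealSheafData.map_bot]

/-- A dominant morphism from the affine line to a curve `C` makes `C` rational. -/
theorem exists_iso_of_dominant (k : Type u) [Field k] (C : Scheme.{u}) [IsIntegral C]
    (p : C ⟶ Spec (CommRingCat.of k)) [LocallyOfFiniteType p] (hdim : topologicalKrullDim C = 1)
    (R : CommRingCat.{u}) [IsDomain R] (cR : CommRingCat.of k ⟶ R) (e0 : R ≃+* Polynomial k)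
    (hc : ∀ c, e0 (cR.hom c) = Polynomial.C c) [LocallyOfFiniteType (Spec.map cR)]
    (g : Spec R ⟶ C) (hg : g ≫ p = Spec.map cR) (hgd : DenseRange g) :
    ∃ (U : C.Opens) (V : (Spec R).Opens)
      (e : (↑U : Scheme.{u}) ≅ ↑V), (U : Set C).Nonempty ∧
      e.hom ≫ V.ι ≫ Spec.map cR = U.ι ≫ p := by
  let _ : C.Over (Spec (CommRingCat.of k)) := ⟨p⟩
  have _ : LocallyOfFiniteType (C ↘ (Spec (CommRingCat.of k))) := ‹LocallyOfFiniteType p›
  obtain ⟨φ, hφ⟩ := exists_stalk_map g (map_genericPoint g hgd)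
  -- the three fields
  let aC : k →+* C.functionField := Curv2.stalkMap k C (genericPoint C)
  have haC : Spec.map (CommRingCat.ofHom aC) = C.fromSpecStalk _ ≫ p :=
    Groth.Agent.VarietyB.ResMap.specMap_stalkMap k C _
  let aM : k →+* (Spec R).functionField :=
    (algebraMap R (Spec R).functionField).comp cR.hom
  have haM : Spec.map (CommRingCat.ofHom aM) =
      (Spec R).fromSpecStalk _ ≫ Spec.map cR := by
    rw [K915.Luroth.fromSpecStalk_eq, ← Spec.map_comp]
    rfl
  have hcomp : ∀ c, φ.hom (aC c) = aM c := by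
    intro c
    have h1 : CommRingCat.ofHom aC ≫ φ = CommRingCat.ofHom aM := by
      apply Spec.map_injective
      rw [Spec.map_comp, haC, haM, reassoc_of% hφ, hg]
    exact congr($(h1).hom c)
  have hne : ¬ Function.Surjective aC := by
    intro hs
    have h1 : (@Algebra.trdeg k (C.residueField (genericPoint C)) _ _
        (Curv2.resAlgebra k C _)) = (0 : ℕ) := by
      let _ := Curv2.resAlgebra k C (genericPoint C)
      have h3 : Algebra.IsAlgebraic k (C.residueField (genericPoint C)) := by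
        constructor
        intro x
        obtain ⟨y, rfl⟩ := C.residue_surjective _ x
        obtain ⟨c, rfl⟩ := hs y
        exact isAlgebraic_algebraMap (A := C.residueField (genericPoint C)) c
      rw [Nat.cast_zero]
      exact _root_.trdeg_eq_zero
    have h2 := Groth.Agent.S1619.result k C 0 h1
    rw [hdim] at h2
    exact absurd h2 (by simp)
  obtain ⟨e, he⟩ := K915.Luroth.exists_ratFunc_aux k R e0
  obtain ⟨ψ, hψ⟩ := K915.Luroth.luroth aC aM e (fun c => by
    refine (he _).trans ?_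
    rw [hc]
    rfl) φ.hom hcomp hne
  have hψ' : CommRingCat.ofHom aC ≫ CommRingCat.ofHom (ψ : C.functionField →+* (Spec R).functionField)
      = CommRingCat.ofHom aM := by
    ext c
    exact hψ c
  let ψ' : C.functionField ≅ (Spec R).functionField := ψ.toCommRingCatIso
  have hψ'' : CommRingCat.ofHom aC ≫ ψ'.hom = CommRingCat.ofHom aM := hψ'
  have : Subsingleton ↥(Spec (CommRingCat.of k)) := inferInstanceAs (Subsingleton (PrimeSpectrum k))
  have hX : LocallyOfFinitePresentation p :=
    LocallyOfFinitePresentation.iff_locallyOfFiniteType.mpr inferInstance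
  have hY : LocallyOfFinitePresentation (Spec.map cR) :=
    LocallyOfFinitePresentation.iff_locallyOfFiniteType.mpr inferInstance
  have e1 : p (genericPoint C) =
    (Spec.map cR) (genericPoint (Spec R)) := Subsingleton.elim _ _
  obtain ⟨U, hxU, V, f, hf, -, h2⟩ := K653.LocalIso.exists_isIso_spread_out
    p (Spec.map cR) e1 ψ'.inv (by
      apply Spec.map_injective
      rw [← cancel_mono ((Spec (CommRingCat.of k)).fromSpecStalk _), Spec.map_comp, Spec.map_comp,
        Category.assoc, Category.assoc, Scheme.SpecMap_stalkMap_fromSpecStalk,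
        Scheme.SpecMap_stalkSpecializes_fromSpecStalk, Scheme.SpecMap_stalkMap_fromSpecStalk,
        ← haC, ← haM, ← Spec.map_comp, ← hψ'', Category.assoc, ψ'.hom_inv_id]
      exact congrArg Spec.map (Category.comp_id _))
  exact ⟨U, V, asIso f, ⟨_, hxU⟩, h2⟩

open Groth.Agent.Sga5

/-- The images of the projective line. -/
theorem exists_iso_of_image (k : Type u) [Field k] {n : ℕ} (C : Scheme.{u})
    (i : C ⟶ CohB1.ProjSpace n k) [IsClosedImmersion i] [IsIntegral C]
    (hdim : topologicalKrullDim C = 1) (f : CohB1.ProjSpace 1 k ⟶ CohB1.ProjSpace n k)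
    (hf : f ≫ CohB1.ProjSpace.toSpec n k = CohB1.ProjSpace.toSpec 1 k) (hker : f.ker = i.ker) :
    ∃ (U : C.Opens) (V : (CohB1.ProjSpace 1 k).Opens) (e : (↑U : Scheme.{u}) ≅ ↑V),
        Nonempty U ∧
          e.hom ≫ V.ι ≫ CohB1.ProjSpace.toSpec 1 k = U.ι ≫ i ≫ CohB1.ProjSpace.toSpec n k := by
  have hp : ∀ m, IsProper (CohB1.ProjSpace.toSpec m k) :=
    fun m => Groth.Agent.Ega3B.ProjProper.isProper_toSpec m k
  have := hp 1
  have := hp n
  have hfp : IsProper (f ≫ CohB1.ProjSpace.toSpec n k) := by rw [hf]; infer_instance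
  have hfq : QuasiCompact f := by
    have : IsProper f := IsProper.of_comp f (CohB1.ProjSpace.toSpec n k)
    infer_instance
  let f' : CohB1.ProjSpace 1 k ⟶ C := IsClosedImmersion.lift i f hker.ge
  have hf' : f' ≫ i = f := IsClosedImmersion.lift_fac _ _ _
  have hdense : DenseRange f' := by
    have h1 := Scheme.Hom.support_ker f
    have h2 := Scheme.Hom.support_ker i
    rw [hker] at h1
    have h3 : closure (Set.range f) = closure (Set.range i) := by rw [← h1, ← h2]
    have h4 : Set.range f = i '' (Set.range f') := by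
      rw [← hf', Scheme.Hom.comp_base, TopCat.coe_comp, Set.range_comp]
    rw [h4, i.isClosedEmbedding.closure_image_eq, i.isClosedEmbedding.isClosed_range.closure_eq] at h3
    have h5 : i '' (closure (Set.range f')) = i '' Set.univ := h3.trans Set.image_univ.symm
    rw [DenseRange, dense_iff_closure_eq]
    exact i.isClosedEmbedding.injective.image_injective h5
  have hirr := Groth.Agent.Lefpen.H717.ProjIrr.irreducibleSpace_projSpace (k := k) (n := 1)
  let j := ProjSmooth.chart 1 k 0
  let g := j ≫ f'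
  have hgd : DenseRange g := by
    rw [Scheme.Hom.comp_base, TopCat.coe_comp]
    refine hdense.comp ?_ f'.continuous
    exact j.isOpenEmbedding.isOpen_range.dense ⟨_, ⟨Classical.arbitrary _, rfl⟩⟩
  have h5 : LocallyOfFiniteType (Spec.map (CommRingCat.ofHom
      (MvPolynomial.C : k →+* MvPolynomial (Fin 1) k))) := by
    rw [← ProjSmooth.chart_toSpec 1 k 0]
    infer_instance
  obtain ⟨U, V, e, hU, he⟩ := exists_iso_of_dominant k C (i ≫ CohB1.ProjSpace.toSpec n k) hdim
    (CommRingCat.of (MvPolynomial (Fin 1) k)) (CommRingCat.ofHom MvPolynomial.C)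
    (MvPolynomial.uniqueAlgEquiv k (Fin 1)).toRingEquiv
    (fun c => (MvPolynomial.uniqueAlgEquiv k (Fin 1)).commutes c) g (by
      rw [Category.assoc, reassoc_of% hf', hf, ProjSmooth.chart_toSpec]) hgd
  refine ⟨U, j ''ᵁ V, e ≪≫ j.isoImage V, ?_, ?_⟩
  · obtain ⟨x, hx⟩ := hU
    exact ⟨⟨x, hx⟩⟩
  · rw [Iso.trans_hom, Category.assoc, Scheme.Hom.isoImage_hom_ι_assoc, ProjSmooth.chart_toSpec, he]

/-- A rational curve is an image of the projective line. -/
theorem exists_image_of_iso (k : Type u) [Field k] {n : ℕ} (C : Scheme.{u})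
    (i : C ⟶ CohB1.ProjSpace n k) [IsClosedImmersion i] [IsIntegral C]
    (U : C.Opens) (V : (CohB1.ProjSpace 1 k).Opens) (e : (↑U : Scheme.{u}) ≅ ↑V) (hU : Nonempty U)
    (he : e.hom ≫ V.ι ≫ CohB1.ProjSpace.toSpec 1 k = U.ι ≫ i ≫ CohB1.ProjSpace.toSpec n k) :
    ∃ f : CohB1.ProjSpace 1 k ⟶ CohB1.ProjSpace n k,
        f ≫ CohB1.ProjSpace.toSpec n k = CohB1.ProjSpace.toSpec 1 k ∧ f.ker = i.ker := by
  have hp : ∀ m, IsProper (CohB1.ProjSpace.toSpec m k) :=
    fun m => Groth.Agent.Ega3B.ProjProper.isProper_toSpec m k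
  have := hp 1
  have := hp n
  let _ : (CohB1.ProjSpace 1 k).Over (Spec (CommRingCat.of k)) := ⟨CohB1.ProjSpace.toSpec 1 k⟩
  let _ : (CohB1.ProjSpace n k).Over (Spec (CommRingCat.of k)) := ⟨CohB1.ProjSpace.toSpec n k⟩
  have h1 : LocallyOfFiniteType ((CohB1.ProjSpace 1 k) ↘ (Spec (CommRingCat.of k))) :=
    inferInstanceAs (LocallyOfFiniteType (CohB1.ProjSpace.toSpec 1 k))
  have h2 : QuasiCompact ((CohB1.ProjSpace 1 k) ↘ (Spec (CommRingCat.of k))) :=
    inferInstanceAs (QuasiCompact (CohB1.ProjSpace.toSpec 1 k))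
  have h3 : IsSeparated ((CohB1.ProjSpace 1 k) ↘ (Spec (CommRingCat.of k))) :=
    inferInstanceAs (IsSeparated (CohB1.ProjSpace.toSpec 1 k))
  have h4 : IsProper ((CohB1.ProjSpace n k) ↘ (Spec (CommRingCat.of k))) :=
    inferInstanceAs (IsProper (CohB1.ProjSpace.toSpec n k))
  have hint := Groth.Agent.Lefpen.H717.ProjIrr.isIntegral_projSpace 1 k
  have hne : (U : Set C).Nonempty := ⟨hU.some.1, hU.some.2⟩
  have hVne : (V : Set (CohB1.ProjSpace 1 k)).Nonempty :=
    ⟨(e.hom hU.some).1, (e.hom hU.some).2⟩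
  obtain ⟨f, ⟨hf1, hf2⟩, -⟩ := Groth.Agent.S2344.result k (CohB1.ProjSpace 1 k) (CohB1.ProjSpace n k)
    (fun x hx => Groth.Agent.Lefpen.H705.ClosedPoint.ringKrullDim_stalk
      (CohB1.ProjSpace.toSpec 1 k) 1 x hx)
    (fun x => by
      obtain ⟨h5, h6⟩ := Groth.Agent.Lefpen.H723.P1Flat.stalk_pid k x
      exact ⟨h5, inferInstance⟩) V (V.isOpen.dense hVne) (e.inv ≫ U.ι ≫ i) (by
      change (e.inv ≫ U.ι ≫ i) ≫ CohB1.ProjSpace.toSpec n k = V.ι ≫ CohB1.ProjSpace.toSpec 1 k
      rw [Category.assoc, Category.assoc, ← he, e.inv_hom_id_assoc])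
  refine ⟨f, hf2, ?_⟩
  rw [← ker_ι_comp V hVne, hf1, Scheme.Hom.ker_comp_of_isIso, ker_ι_comp U hne]

end K915.RatIff
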